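import Cfsg.Agent.Lib.Sporadic.LySub.Gt.Tree2

set_option autoImplicit false
set_option maxRecDepth 20000

/-! Generated certificate (owner: helper25). -/

namespace CfsgLib.Sporadic.LySub.Gt
open CfsgLib.Recog.SporBound (Q)

/-- The certificate. -/
noncomputable def cert : CfsgLib.Sporadic.PairEnum.Cert where
  n := 3906
  nd := 9484
  nf := 38556
  nl := 8
  kl := [0, 2, 4, 6]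
  facts := (.node (.node (.node ft1 ft2 ft3 ft4) (.node ft5 ft6 ft7 ft8) (.node ft9 ft10 ft11 ft12) (.node ft13 ft14 ft15 ft16)) (.node (.node ft17 ft18 ft19 ft20) (.node ft21 ft22 ft23 ft24) (.node ft25 ft26 ft27 ft28) (.node ft29 ft30 ft31 ft32)) (.node (.node ft33 ft34 ft35 ft36) (.node ft37 ft38 ft39 ft40) (.node ft41 ft42 ft43 ft44) (.node ft45 ft46 ft47 ft48)) (.node (.node ft49 ft50 ft51 ft52) (.node ft53 ft54 ft55 ft56) (.node ft57 ft58 ft59 ft60) (.node ft61 ft62 ft63 ft64)))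
  cn := (.node ct65 ct66 ct67 ct68)
  steps := st321
  finals := (.node (.node (.node et322 et323 et324 et325) (.node et326 et327 et328 et329) (.node et330 et331 et332 et333) (.node et334 et335 et336 et337)) (.node (.node et338 et339 et340 et341) (.node et342 et343 et344 et345) (.node et346 et347 et348 et349) (.node et350 et351 et352 et353)) (.node (.node et354 et355 et356 et357) (.node et358 et359 et360 et361) (.node et362 et363 et364 et365) (.node et366 et367 et368 et369)) (.node (.node et370 et371 et372 et373) (.node et374 et375 et376 et377) (.node et378 et379 et380 et381) (.node et382 et383 et384 et385)))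
  rels := [[0, 0, 0, 0, 0, 0, 0, 0], [2, 2, 2, 2, 2], [0, 2, 0, 2, 0, 2, 0, 2], [1, 1, 3, 0, 0, 2], [1, 3, 0, 2, 1, 3, 0, 2, 1, 3, 0, 2], [4, 4, 4, 4, 4], [5, 1, 5, 0, 4, 1, 4, 0, 5, 1, 5, 0, 4, 1, 4, 0, 5, 1, 5, 0, 4, 1, 4, 0, 5, 1, 5, 0, 4, 1, 4, 0, 5, 1, 5, 0, 4, 1, 4, 0], [5, 1, 5, 0, 5, 1, 4, 0, 4, 1, 5, 0, 4, 1, 4, 0], [1, 5, 5, 0, 5, 1, 4, 0, 4, 1, 4, 0, 5, 1, 5, 0, 4, 1, 4, 0], [3, 5, 2, 1, 5, 0, 5, 1, 4, 0, 4, 3, 4, 2, 5, 1, 5, 0, 4, 1, 4, 0], [2, 5, 3, 1, 5, 0, 5, 1, 4, 0, 4, 2, 4, 3, 5, 1, 5, 0, 4, 1, 4, 0], [5, 3, 5, 2, 4, 3, 4, 2, 5, 1, 5, 0, 4, 1, 4, 0, 5, 1, 5, 0, 4, 1, 4, 0], [5, 2, 5, 3, 4, 2, 4, 3, 1, 5, 0, 5, 1, 4, 0, 4, 1, 5, 0, 5, 1, 4, 0, 4], [1, 5, 0, 3, 5, 2, 1, 4, 0, 3, 4, 2, 5, 1, 5, 0,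 4, 1, 4, 0], [1, 5, 0, 2, 5, 3, 1, 4, 0, 2, 4, 3], [3, 5, 2, 2, 5, 3, 3, 4, 2, 2, 4, 3, 5, 1, 5, 0, 4, 1, 4, 0], [1, 1, 4, 0, 0, 4, 4], [1, 3, 4, 2, 0, 2, 5, 3, 5, 3, 4, 4, 2], [1, 2, 4, 3, 0, 2, 5, 3, 5, 2, 5, 3, 3, 4, 2, 1, 4, 0, 5], [1, 5, 1, 5, 0, 4, 1, 4, 0, 5, 0, 5, 1, 4, 0, 4, 1, 5, 0, 5, 1, 4, 0, 4], [3, 1, 4, 0, 2, 2, 4, 3, 4, 2, 4, 3, 3, 5, 2, 1, 5, 0], [3, 3, 4, 2, 4, 4, 2, 2, 5, 3, 5, 5], [3, 5, 1, 5, 0, 4, 1, 4, 0, 2, 1, 5, 0, 5, 1, 4, 0, 4], [3, 3, 1, 5, 0, 4, 1, 4, 0, 6, 4, 2, 0, 3, 6, 4, 6, 3, 3, 1, 5, 0, 4, 1, 4, 0, 6, 4, 2, 0, 3, 6, 4, 6], [7, 5, 7, 2, 1, 3, 5, 7, 1, 5, 0, 5, 1, 4, 0, 2, 2, 4, 3, 3, 1, 5, 0, 4, 1, 4, 0, 6, 4, 2, 0, 3, 6, 4, 6, 4, 3, 3, 5], [7, 5, 7, 2, 1, 3, 5, 7, 1, 5, 0, 5, 1,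 4, 0, 2, 4, 3, 1, 5, 0, 4, 1, 4, 0, 6, 4, 2, 0, 3, 6, 4, 6, 0, 2, 4, 3, 4, 1, 5, 3, 3], [7, 5, 7, 2, 1, 3, 5, 7, 1, 5, 0, 5, 1, 4, 0, 2, 2, 2, 4, 3, 3, 3, 1, 5, 0, 4, 1, 4, 0, 6, 4, 2, 0, 3, 6, 4, 6, 2, 5, 3, 3, 4, 3], [7, 5, 7, 2, 1, 3, 5, 7, 1, 5, 0, 5, 1, 4, 0, 2, 2, 5, 1, 5, 0, 4, 1, 4, 0, 3, 3, 1, 5, 0, 4, 1, 4, 0, 6, 4, 2, 0, 3, 6, 4, 6, 2, 4, 3, 5, 3, 4, 2, 5], [3, 3, 1, 5, 0, 4, 1, 4, 0, 6, 4, 2, 0, 3, 6, 4, 6, 0, 0, 3, 3, 1, 5, 0, 4, 1, 4, 0, 6, 4, 2, 0, 3, 6, 4, 6, 2, 4, 3, 1, 5, 0, 5, 1, 4, 2, 1, 3, 3, 1], [7, 5, 7, 2, 1, 3, 5, 7, 1, 5, 0, 5, 1, 4, 0, 2, 1, 5, 0, 4, 1, 4, 0, 6, 4, 2, 0, 3, 6, 4, 6, 2, 4, 4, 3, 3, 4, 2, 5], [3, 3, 1, 5, 0, 4, 1, 4, 0, 6, 4, 2, 0, 3, 6, 4, 6, 0, 2, 2, 0, 3, 0, 3, 3, 1,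 5, 0, 4, 1, 4, 0, 6, 4, 2, 0, 3, 6, 4, 6, 2, 4, 3, 1, 5, 0, 5, 1, 4, 1], [3, 3, 1, 5, 0, 4, 1, 4, 0, 6, 4, 2, 0, 3, 6, 4, 6, 1, 4, 0, 3, 3, 1, 5, 0, 4, 1, 4, 0, 6, 4, 2, 0, 3, 6, 4, 6, 1, 5, 0, 3, 3, 1, 5, 0, 4, 1, 4, 0, 6, 4, 2, 0, 3, 6, 4, 6, 1, 4, 0, 2, 5, 3, 0, 3, 4, 2, 0, 0, 0], [5, 7, 2, 1, 3, 5, 7, 1, 5, 0, 5, 1, 4, 0, 2, 1, 4, 7, 5, 7, 2, 1, 3, 5, 7, 1, 5, 0, 5, 1, 4, 0, 2, 2, 1, 7, 5, 7, 2, 1, 3, 5, 7, 1, 5, 0, 5, 1, 4, 0, 2, 2, 1, 5, 1, 5, 0, 4, 1, 4, 0, 2, 4, 3, 4, 2, 0, 3, 3, 1], [6, 6, 1, 1, 1, 1], [3, 7, 2, 6], [7, 0, 6, 1, 1, 1], [6, 5, 1, 5, 0, 4, 1, 4, 0, 6, 5, 1, 5, 0, 4, 1, 4, 0, 6, 5, 1, 5, 0, 4, 1, 4, 0, 6, 5, 1, 5, 0, 4, 1, 4, 0, 6, 5, 1, 5, 0, 4, 1, 4, 0], [6, 5, 1, 5, 0, 4, 1, 4, 0, 6, 1,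 5, 0, 5, 1, 4, 0, 4, 6, 5, 1, 5, 0, 4, 1, 4, 1]]
  subs := [[0], [2], [4]]

end CfsgLib.Sporadic.LySub.Gt
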